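import Mathlib

/-!
# A central extension from a corestricted cup product

For an abelian `C ≤ J` and two homomorphisms `C → Z/p`, the 2-cocycle
`κ(g,h) = Σ_x f₁(c(g,hx)) f₂(c(h,x))` over the cosets of `C`.  If the centralizer of every
non-trivial element of `C` is `C`, two elements `a, b` of `C` lift to elements whose commutator is
the sum of `f₁(aⁿ)f₂(bⁿ) - f₁(bⁿ)f₂(aⁿ)` over the cosets `n` of `C` in its normalizer.
-/

set_option autoImplicit false

namespace CfsgLib.Walter.FieldAut.CoverAux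

universe u

open Subgroup MulAction

variable {J : Type u} [Group J] (C : Subgroup J) (p : ℕ)

/-- A representative of the `C`-orbit of a coset. -/
noncomputable def orep (x : J ⧸ C) : J ⧸ C :=
  (Quotient.mk (orbitRel C (J ⧸ C)) x).out

theorem orep_rel (x : J ⧸ C) : ∃ d : C, d • orep C x = x := by
  have h : x ∈ orbit C (orep C x) := by
    rw [← orbitRel_apply]
    exact Quotient.exact (Quotient.out_eq (Quotient.mk (orbitRel C (J ⧸ C)) x)).symm
  exact h

theorem orep_smul (a : C) (x : J ⧸ C) : orep C (a • x) = orep C x := by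
  rw [orep, orep]
  congr 1
  exact Quotient.sound (mem_orbit x a)

/-- The element of `C` moving the representative to `x`. -/
noncomputable def mover (x : J ⧸ C) : C := (orep_rel C x).choose

theorem mover_spec (x : J ⧸ C) : mover C x • orep C x = x := (orep_rel C x).choose_spec

/-- A section adapted to `C`. -/
noncomputable def sec (x : J ⧸ C) : J := (mover C x : J) * (orep C x).out

theorem sec_mk (x : J ⧸ C) : ((sec C x : J) : J ⧸ C) = x := by
  have h : ((mover C x : J) • (((orep C x).out : J) : J ⧸ C)) = x := by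
    rw [QuotientGroup.out_eq']; exact mover_spec C x
  exact h

/-- The cocycle of the section. -/
noncomputable def coc (g : J) (x : J ⧸ C) : C :=
  ⟨(sec C (g • x))⁻¹ * g * sec C x, by
    have h : ((g * sec C x : J) : J ⧸ C) = ((sec C (g • x) : J) : J ⧸ C) := by
      rw [sec_mk]
      show g • ((sec C x : J) : J ⧸ C) = g • x
      rw [sec_mk]
    have := QuotientGroup.eq.1 h.symm
    simpa [mul_assoc] using this⟩

theorem coe_coc (g : J) (x : J ⧸ C) : (coc C g x : J) = (sec C (g • x))⁻¹ * g * sec C x := rfl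

theorem coc_mul (g h : J) (x : J ⧸ C) : coc C (g * h) x = coc C g (h • x) * coc C h x := by
  apply Subtype.ext
  rw [Subgroup.coe_mul, coe_coc, coe_coc, coe_coc, mul_smul]
  group

theorem coc_one (x : J ⧸ C) : coc C 1 x = 1 := by
  apply Subtype.ext
  rw [coe_coc, one_smul]
  simp

/-- On the free orbits the cocycle vanishes on `C`. -/
theorem coc_eq_one (hfree : ∀ (a : C) (x : J ⧸ C), a • x = x → a = 1 ∨ ∀ b : C, b • x = x)
    (a : C) (x : J ⧸ C) (hx : ¬ ∀ b : C, b • x = x) : coc C a x = 1 := by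
  have hsm : (a : J) • x = a • x := rfl
  obtain ⟨d, hd⟩ : ∃ d, d = (a * mover C x)⁻¹ * mover C (a • x) := ⟨_, rfl⟩
  have hfix : d • orep C x = orep C x := by
    rw [hd, mul_smul, ← orep_smul C a x, mover_spec, inv_smul_eq_iff, mul_smul, orep_smul, mover_spec]
  have hd1 : d = 1 := by
    rcases hfree d _ hfix with h | h
    · exact h
    · refine absurd (fun b => ?_) hx
      have h2 := h (mover C x)
      rw [mover_spec] at h2
      rw [h2]; exact h b
  have hm : mover C (a • x) = a * mover C x := by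
    rw [hd, inv_mul_eq_one] at hd1
    exact hd1.symm
  apply Subtype.ext
  rw [coe_coc, hsm, sec, sec, hm, orep_smul, Subgroup.coe_mul, Subgroup.coe_one]
  group

variable (f₁ f₂ : C →* Multiplicative (ZMod p)) [Fintype (J ⧸ C)]

/-- The corestricted cup product. -/
noncomputable def kappa (g h : J) : ZMod p :=
  ∑ x : J ⧸ C, (f₁ (coc C g (h • x))).toAdd * (f₂ (coc C h x)).toAdd

theorem kappa_cocycle (g h k : J) :
    kappa C p f₁ f₂ g h + kappa C p f₁ f₂ (g * h) k =
      kappa C p f₁ f₂ g (h * k) + kappa C p f₁ f₂ h k := by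
  simp only [kappa, coc_mul, map_mul, toAdd_mul, add_mul, mul_add, Finset.sum_add_distrib, mul_smul]
  rw [← Equiv.sum_comp (MulAction.toPerm k) (fun x : J ⧸ C =>
    (f₁ (coc C g (h • x))).toAdd * (f₂ (coc C h x)).toAdd)]
  simp only [MulAction.toPerm_apply]
  ring

theorem kappa_one_left (h : J) : kappa C p f₁ f₂ 1 h = 0 := by
  simp [kappa, coc_one]

theorem kappa_one_right (g : J) : kappa C p f₁ f₂ g 1 = 0 := by
  simp [kappa, coc_one]

/-- The extension. -/
def Ext (_f₁ _f₂ : C →* Multiplicative (ZMod p)) : Type u := ZMod p × J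

noncomputable instance : Group (Ext C p f₁ f₂) :=
  letI : Mul (Ext C p f₁ f₂) := ⟨fun a b => (a.1 + b.1 + kappa C p f₁ f₂ a.2 b.2, a.2 * b.2)⟩
  letI : One (Ext C p f₁ f₂) := ⟨(0, 1)⟩
  letI : Inv (Ext C p f₁ f₂) := ⟨fun a => (-a.1 - kappa C p f₁ f₂ a.2⁻¹ a.2, a.2⁻¹)⟩
  Group.ofLeftAxioms
    (fun a b c => Prod.ext (by
        show a.1 + b.1 + kappa C p f₁ f₂ a.2 b.2 + c.1 + kappa C p f₁ f₂ (a.2 * b.2) c.2 =
          a.1 + (b.1 + c.1 + kappa C p f₁ f₂ b.2 c.2) + kappa C p f₁ f₂ a.2 (b.2 * c.2)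
        linear_combination kappa_cocycle C p f₁ f₂ a.2 b.2 c.2) (mul_assoc _ _ _))
    (fun a => Prod.ext (by
        show (0 : ZMod p) + a.1 + kappa C p f₁ f₂ 1 a.2 = a.1
        rw [kappa_one_left]; ring) (one_mul _))
    (fun a => Prod.ext (by
        show -a.1 - kappa C p f₁ f₂ a.2⁻¹ a.2 + a.1 + kappa C p f₁ f₂ a.2⁻¹ a.2 = 0
        ring) (inv_mul_cancel _))

theorem Ext.mul_def (a b : Ext C p f₁ f₂) :
    a * b = (a.1 + b.1 + kappa C p f₁ f₂ a.2 b.2, a.2 * b.2) := rfl

instance [NeZero p] [Finite J] : Finite (Ext C p f₁ f₂) :=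
  inferInstanceAs (Finite (ZMod p × J))

/-- The projection. -/
noncomputable def proj : Ext C p f₁ f₂ →* J where
  toFun a := a.2
  map_one' := rfl
  map_mul' _ _ := rfl

theorem proj_surjective : Function.Surjective (proj C p f₁ f₂) := fun g => ⟨(0, g), rfl⟩

theorem ker_le_center : (proj C p f₁ f₂).ker ≤ Subgroup.center (Ext C p f₁ f₂) := by
  rintro ⟨a, g⟩ hg
  have hg' : g = 1 := hg
  subst hg'
  refine mem_center_iff.2 fun b => ?_
  show ((b.1 + a + kappa C p f₁ f₂ b.2 1, b.2 * 1) : ZMod p × J) =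
    (a + b.1 + kappa C p f₁ f₂ 1 b.2, 1 * b.2)
  rw [kappa_one_left, kappa_one_right, mul_one, one_mul, add_comm b.1 a]

theorem card_ker [NeZero p] : Nat.card (proj C p f₁ f₂).ker = p := by
  refine (Nat.card_congr ?_).trans (Nat.card_zmod p)
  exact
    { toFun := fun a => a.1.1
      invFun := fun c => ⟨(c, 1), rfl⟩
      left_inv := fun a => Subtype.ext (Prod.ext rfl (show (1 : J) = a.1.2 from a.2.symm))
      right_inv := fun c => rfl }

/-- The alternating form. -/
def beta (a b : C) : ZMod p :=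
  (f₁ a).toAdd * (f₂ b).toAdd - (f₁ b).toAdd * (f₂ a).toAdd

/-- The commutator of lifts of two elements of `C`. -/
theorem kappa_sub (hfree : ∀ (a : C) (x : J ⧸ C), a • x = x → a = 1 ∨ ∀ b : C, b • x = x)
    (a b : C) (β : ZMod p)
    (hfix : ∀ x : J ⧸ C, (∀ d : C, d • x = x) → beta C p f₁ f₂ (coc C a x) (coc C b x) = β) :
    kappa C p f₁ f₂ a b - kappa C p f₁ f₂ b a = Nat.card {x : J ⧸ C // ∀ d : C, d • x = x} * β := by
  classical
  rw [kappa, kappa, ← Finset.sum_sub_distrib, Nat.card_eq_fintype_card, Fintype.card_subtype,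
    ← nsmul_eq_mul, ← Finset.sum_const, Finset.sum_filter]
  refine Finset.sum_congr rfl fun x _ => ?_
  by_cases hx : ∀ d : C, d • x = x
  · have ha : (a : J) • x = x := hx a
    have hb : (b : J) • x = x := hx b
    rw [if_pos hx, ← hfix x hx, beta, ha, hb]
  · have ha : ¬ ∀ d : C, d • ((a : J) • x) = (a : J) • x := fun h => hx fun d => by
      have h1 : a • (a • x) = a • x := h a
      have h2 : a • x = x := MulAction.injective a h1
      have h3 : d • (a • x) = a • x := h d
      rwa [h2] at h3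
    rw [if_neg hx, coc_eq_one C hfree b x hx, coc_eq_one C hfree a x hx]
    simp

/-- The extension is perfect when two lifts do not commute and the kernel has prime order. -/
theorem perfect [Fact p.Prime] (hJ : commutator J = ⊤) {a b : J} (hab : Commute a b)
    (hne : kappa C p f₁ f₂ a b - kappa C p f₁ f₂ b a ≠ 0) :
    commutator (Ext C p f₁ f₂) = ⊤ := by
  set R := Ext C p f₁ f₂
  let A : R := (0, a)
  let B : R := (0, b)
  have hker : ∀ k : R, k ∈ (proj C p f₁ f₂).ker → k ∈ commutator R := by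
    have hAB : A * B * A⁻¹ * B⁻¹ ∈ (proj C p f₁ f₂).ker := by
      rw [MonoidHom.mem_ker, map_mul, map_mul, map_mul, map_inv, map_inv]
      show a * b * a⁻¹ * b⁻¹ = 1
      rw [hab.eq, mul_inv_cancel_right, mul_inv_cancel]
    have hne1 : (⟨_, hAB⟩ : (proj C p f₁ f₂).ker) ≠ 1 := fun e => hne (by
      have e1 : A * B * A⁻¹ * B⁻¹ = 1 := congrArg Subtype.val e
      rw [mul_inv_eq_one, mul_inv_eq_iff_eq_mul] at e1
      have e2 := congrArg Prod.fst e1
      change (0 : ZMod p) + 0 + kappa C p f₁ f₂ a b = 0 + 0 + kappa C p f₁ f₂ b a at e2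
      simp only [zero_add] at e2
      rw [e2, sub_self])
    intro k hk
    obtain ⟨i, hi⟩ := Subgroup.mem_zpowers_iff.1 (mem_zpowers_of_prime_card (g' := (⟨k, hk⟩ : (proj C p f₁ f₂).ker))
      (card_ker C p f₁ f₂) hne1)
    have hi' : (A * B * A⁻¹ * B⁻¹) ^ i = k := congrArg Subtype.val hi
    rw [← hi']
    refine Subgroup.zpow_mem _ ?_ i
    exact Subgroup.commutator_mem_commutator (g₁ := A) (g₂ := B) (mem_top _) (mem_top _)
  rw [eq_top_iff]
  intro r _
  have hmap : (commutator R).map (proj C p f₁ f₂) = ⊤ := by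
    rw [_root_.commutator_def, Subgroup.map_commutator, Subgroup.map_top_of_surjective _ (proj_surjective C p f₁ f₂),
      ← _root_.commutator_def, hJ]
  obtain ⟨s, hs, hse⟩ : proj C p f₁ f₂ r ∈ (commutator R).map (proj C p f₁ f₂) := hmap ▸ mem_top _
  have : s⁻¹ * r ∈ commutator R := hker _ (by rw [MonoidHom.mem_ker, map_mul, map_inv, hse, inv_mul_cancel])
  simpa using (commutator R).mul_mem hs this

end CfsgLib.Walter.FieldAut.CoverAux
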